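import Cfsg.Agent.Lib.Sporadic.FiTransfer.Local23.SevenDefs

/-!
The checks hold.
-/

set_option autoImplicit false
set_option maxRecDepth 100000
set_option maxHeartbeats 0

namespace CfsgLib.Sporadic.FiTransfer.Local23.Seven

theorem pts_ok : ptsK = true := by decide +kernel
theorem let_ok : letK = true := by decide +kernel
theorem forest_ok : forestK = true := by decide +kernel
theorem nbr_ok : nbrK = true := by decide +kernel
theorem adj0 : adjK 0 90 = true := by decide +kernel
theorem adj1 : adjK 90 36 = true := by decide +kernel
theorem dfs_ok : dfsK = true := by decide +kernel
theorem clique_ok : cliqueK = true := by decide +kernel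
theorem trip0 : tripK 0 16000 = true := by decide +kernel
theorem trip1 : tripK 16000 15671 = true := by decide +kernel
theorem scan0 : fixScanK 0 8000 = true := by decide +kernel
theorem scan1 : fixScanK 8000 8000 = true := by decide +kernel
theorem scan2 : fixScanK 16000 8000 = true := by decide +kernel
theorem scan3 : fixScanK 24000 7671 = true := by decide +kernel

end CfsgLib.Sporadic.FiTransfer.Local23.Seven
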