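import Cfsg.Agent.Lib.Sporadic.FiTransfer.Local23.Basic
import Cfsg.Agent.Lib.Sporadic.FiTransfer.Local23.SevenChecks
import Cfsg.Agent.S1686
import Cfsg.Agent.S0295

/-!
# The normaliser of a product of two non-commuting transpositions of Fi23

The eight letters `f, e, d, c, b, a, h, i` satisfy the presentation of `O(7,3)` and fix two
non-commuting transpositions; their subgroup is the whole centraliser of the two.
-/

set_option autoImplicit false
set_option maxRecDepth 100000
set_option linter.unusedSectionVars false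

open Cfsg.Spor

namespace CfsgLib.Sporadic.FiTransfer.Local23.Seven

open CosetCert CosetCert.Fi23P
open CosetCert.Fi23Data (table forestH)
open CosetCert.Fi23P.Two (el el_img el_append el_single el_nil el_reverse dp conj_dp gpt gpt_val genPts
  gen_eq_dp comm_of_fix eq_of_sameK)
open CfsgLib.Sporadic.FiTransfer23 (classTr)
open CosetCert.Fi23P.OutFi (dp_of_half rowsOf halfK fullWord fullWord_lt hom_inv_apply dp_injective dp_sq)

attribute [local irreducible] PTab.img Forest.cls

theorem N_eq : table.N = 31671 := rfl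

theorem blt_iff {a b : ℕ} : Nat.blt a b = true ↔ a < b := by rw [Nat.blt_eq]

theorem runL_word {w : List ℕ} (hw : ∀ x ∈ w, x < 10) (u : Fin table.N) :
    PTab.runL (rowsOf w) u = ((hom (el w) u : Fin table.N) : ℕ) := by
  rw [el_img hw]
  exact ((Fi23Data.imgW_fast w (List.all_eq_true.2 fun x hx => blt_iff.2 (hw x hx)) u u.2).1).symm

/-- The second point. -/
noncomputable def p8 : Fin table.N := gpt 7

/-- The third point. -/
noncomputable def p1 : Fin table.N := ptOne

theorem p8_val : (p8 : ℕ) = 8006 := by rw [p8, gpt_val (by norm_num)]; decide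

/-- The first transposition. -/
noncomputable def a0 : Fi23 := dp pt

/-- The second transposition. -/
noncomputable def d0 : Fi23 := dp p8

theorem d0_gen : d0 = coding.gen 7 := (gen_eq_dp 7 (by norm_num)).symm

theorem a0_el : a0 = el trWord := tr_eq_dp.symm

theorem trWord_lt' : ∀ x ∈ trWord, x < 10 := by decide

theorem xWord_lt : ∀ x ∈ xWord, x < 10 := by decide

/-- The element of order three. -/
noncomputable def x0 : Fi23 := el xWord

theorem x0_eq : x0 = d0 * a0 := by
  rw [x0, xWord, el_append, el_single, d0_gen, a0_el]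

theorem a0_p8 : hom a0 p8 = p1 := by
  have h1 : hom a0 p1 = p8 := Fin.ext (by
    rw [p8_val, a0_el, el_img trWord_lt']; exact trWord_one)
  rw [← h1, ← Equiv.Perm.mul_apply, ← map_mul, a0, dp_sq, map_one, Equiv.Perm.one_apply]

theorem d0_pt : hom d0 pt = p1 := by rw [d0_gen]; exact hom_j_pt

theorem d0_self : hom d0 p8 = p8 := commute_dp_iff.1 (Commute.refl _)

theorem a0_self : hom a0 pt = pt := commute_dp_iff.1 (Commute.refl _)

theorem pt_ne_p8 : pt ≠ p8 := fun e => by
  have := congrArg Fin.val e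
  rw [p8_val] at this
  exact absurd (show (0 : ℕ) = 8006 from this) (by norm_num)

theorem p1_ne_pt : p1 ≠ pt := fun e => absurd (congrArg Fin.val e) (by norm_num [p1, ptOne, pt])

theorem p1_ne_p8 : p1 ≠ p8 := fun e => by
  have := congrArg Fin.val e
  rw [p8_val] at this
  exact absurd (show (1 : ℕ) = 8006 from this) (by norm_num)

/-! ### The subgroup of the eight letters -/

theorem kLets_lt : ∀ x ∈ kLets, x < 10 := by decide

theorem kLet_fix : ∀ x ∈ kLets, hom (coding.gen x) pt = pt ∧ hom (coding.gen x) p8 = p8 := by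
  intro x hx
  have h := List.all_eq_true.1 let_ok x hx
  rw [Bool.and_eq_true] at h
  have hx' : ∀ y ∈ [x], y < 10 := by simpa using kLets_lt x hx
  rw [← el_single]
  refine ⟨Fin.ext ?_, Fin.ext ?_⟩
  · rw [el_img hx']; exact Nat.eq_of_beq_eq_true h.1
  · rw [el_img hx', p8_val]; exact Nat.eq_of_beq_eq_true h.2

/-- The images of the generators of the presented group. -/
noncomputable def psiGen (x : Fin 8) : Fi23 := coding.gen (kLets.getD x.val 0)

theorem rels_check : O7P.allRels.all (fun r =>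
    (O7P.letters r).all (fun y => decide (y < 8)) &&
      Two.sameK ((O7P.letters r).map (kLets.getD · 0)) []) = true := by decide +kernel

theorem rels_one : ∀ r ∈ O7P.allRels, FreeGroup.lift psiGen r = 1 := by
  intro r hr
  have h := List.all_eq_true.1 rels_check r hr
  simp only [Bool.and_eq_true, List.all_eq_true, decide_eq_true_eq] at h
  have hinv : ∀ x : Fin 8, coding.gen (kLets.getD x.val 0) = (psiGen x)⁻¹ := fun x =>
    (inv_eq_of_mul_eq_one_right (Two.gen_sq ((show ∀ y : Fin 8, kLets.getD y.val 0 < 10 by decide) x))).symm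
  rw [lift_eq_appProd psiGen (fun y => coding.gen (kLets.getD y 0)) (fun x => x.val) (fun x => x.val)
    (fun _ => rfl) hinv r]
  show appProd _ (O7P.letters r) = _
  rw [← appProd_map coding.gen (kLets.getD · 0)]
  refine (eq_of_sameK ?_ (by simp) h.2).trans el_nil
  intro y hy
  obtain ⟨z, hz, rfl⟩ := List.mem_map.1 hy
  exact (show ∀ y < 8, kLets.getD y 0 < 10 by decide) z (h.1 z hz)

/-- The map from the presented group. -/
noncomputable def psi : O7P.P →* Fi23 :=
  PresentedGroup.toGroup (lift_cox_eq_one psiGen O7P.coding.pairs_cover rels_one)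

/-- The subgroup generated by the eight letters. -/
noncomputable def K0 : Subgroup Fi23 := psi.range

theorem psi_injective : Function.Injective psi := by
  obtain ⟨e⟩ := Cfsg.Agent.S1686.center_free
  let E : O7P.P ≃* Cfsg.POmega (ZMod 3) (Cfsg.quadFormOdd 3 (ZMod 3)) :=
    (MulEquiv.ofBijective O7P.toOm O7P.toOm_bijective).trans e
  have := Cfsg.Agent.S0295.result (F := ZMod 3) (by decide) 3 le_rfl
  have : Nontrivial O7P.P := E.toEquiv.nontrivial
  have hs : IsSimpleGroup O7P.P := IsSimpleGroup.isSimpleGroup_of_surjective (H := O7P.P) E.symm.toMonoidHom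
    E.symm.surjective
  rw [← MonoidHom.ker_eq_bot_iff]
  refine (hs.eq_bot_or_eq_top_of_normal psi.ker inferInstance).resolve_right fun h => ?_
  have h1 : psi (PresentedGroup.of (0 : Fin 8)) = 1 := MonoidHom.mem_ker.1 (h ▸ Subgroup.mem_top _)
  rw [show psi (PresentedGroup.of (0 : Fin 8)) = psiGen 0 from PresentedGroup.toGroup.of _] at h1
  exact OutFi.dp_ne_one (gpt 5) ((gen_eq_dp 5 (by norm_num)).symm.trans h1)

theorem card_K0 : Nat.card K0 = 4585351680 := by
  rw [K0, ← Nat.card_congr (MonoidHom.ofInjective psi_injective).toEquiv]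
  have : Finite O7P.P := Nat.finite_of_card_ne_zero O7P.card_le.2
  have h2 := (FiP.sub [1, 2, 3, 4, 5, 6, 7, 8]).card_mul_index
  rw [FiP.index_O_eq, FiP.card_eq.1, ← Nat.card_congr O7P.equivSub.toEquiv] at h2
  omega

theorem K0_iso : Nonempty (↥K0 ≃* Cfsg.POmega (ZMod 3) (Cfsg.quadFormOdd 3 (ZMod 3))) := by
  obtain ⟨e⟩ := Cfsg.Agent.S1686.center_free
  exact ⟨(MonoidHom.ofInjective psi_injective).symm.trans
    ((MulEquiv.ofBijective O7P.toOm O7P.toOm_bijective).trans e)⟩

theorem K0_eq_closure : K0 = Subgroup.closure (Set.range psiGen) := by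
  rw [K0, MonoidHom.range_eq_map, ← PresentedGroup.closure_range_of, MonoidHom.map_closure,
    ← Set.range_comp]
  congr 1
  exact congrArg Set.range (funext fun x => PresentedGroup.toGroup.of _)

/-- The stabiliser of the two points. -/
def stab2 : Subgroup Fi23 where
  carrier := {g | hom g pt = pt ∧ hom g p8 = p8}
  one_mem' := by simp
  mul_mem' {a b} ha hb := by simp [map_mul, ha.1, ha.2, hb.1, hb.2]
  inv_mem' {a} ha := by
    constructor <;> rw [map_inv, Equiv.Perm.inv_def, Equiv.symm_apply_eq]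
    exacts [ha.1.symm, ha.2.symm]

theorem K0_le : K0 ≤ stab2 := by
  rw [K0_eq_closure, Subgroup.closure_le]
  rintro _ ⟨x, rfl⟩
  exact kLet_fix _ ((show ∀ y : Fin 8, kLets.getD y.val 0 ∈ kLets by decide) x)

theorem stab2_eq : stab2 = K0 := by
  have := CosetCert.Fi23P.finite
  refine (Subgroup.eq_of_le_of_card_ge K0_le (le_of_eq ?_)).symm
  rw [card_K0]
  let f : (sub lH) →* Equiv.Perm (Fin table.N) := hom.comp (sub lH).subtype
  letI : MulAction (sub lH) (Fin table.N) := MulAction.compHom _ f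
  have hc : forestH.cls (p8 : ℕ) = 2 := by rw [p8_val]; decide +kernel
  have horb : MulAction.orbit (sub lH) p8 = ↑(forestH.classSet table 2) := by
    rw [← orbit_H p8 hc]
    ext v
    constructor
    · rintro ⟨k, rfl⟩
      exact ⟨⟨hom k.1, Subgroup.mem_map_of_mem hom k.2⟩, rfl⟩
    · rintro ⟨⟨π, hπ⟩, rfl⟩
      obtain ⟨k, hk, rfl⟩ := Subgroup.mem_map.1 hπ
      exact ⟨⟨k, hk⟩, rfl⟩
  have hst : (MulAction.stabilizer (sub lH) p8).map (sub lH).subtype = stab2 := by
    ext g
    rw [Subgroup.mem_map]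
    constructor
    · rintro ⟨k, hk, rfl⟩
      exact ⟨hom_fix k.1 k.2, MulAction.mem_stabilizer_iff.1 hk⟩
    · rintro ⟨h1, h2⟩
      exact ⟨⟨g, mem_sub_of_fix h1⟩, MulAction.mem_stabilizer_iff.2 h2, rfl⟩
  have h := (MulAction.stabilizer (sub lH) p8).card_mul_index
  rw [MulAction.index_stabilizer, horb, card_sub_H, Set.ncard_coe_finset, Forest.card_classSet,
    show forestH.count 2 table.N = 28160 from Fi23Data.forestH_count2] at h
  rw [← hst, Subgroup.card_map_of_injective (sub lH).subtype_injective]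
  omega

theorem mem_K0_iff {g : Fi23} : g ∈ K0 ↔ Commute g a0 ∧ Commute g d0 := by
  rw [← stab2_eq]
  exact and_congr commute_dp_iff.symm commute_dp_iff.symm

theorem K0_eq_centralizer : K0 = Subgroup.centralizer ({a0, d0} : Set Fi23) := by
  ext g
  rw [mem_K0_iff, Subgroup.mem_centralizer_iff]
  refine ⟨fun h y hy => ?_, fun h => ⟨(h a0 (Or.inl rfl)).symm, (h d0 (Or.inr rfl)).symm⟩⟩
  rcases hy with rfl | rfl
  exacts [h.1.eq.symm, h.2.eq.symm]

theorem kLet_pts : ∀ x : Fin 8, (gpt (kLets.getD x.val 0) : ℕ) ≠ 0 ∧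
    (gpt (kLets.getD x.val 0) : ℕ) ≠ 8006 := by
  intro x
  rw [gpt_val ((show ∀ y : Fin 8, kLets.getD y.val 0 < 10 by decide) x)]
  revert x
  decide

theorem K0_eq_set : K0 = Subgroup.closure
    {y : Fi23 | y ∈ classTr ∧ Commute a0 y ∧ Commute d0 y ∧ y ≠ a0 ∧ y ≠ d0} := by
  apply le_antisymm
  · conv_lhs => rw [K0_eq_closure]
    rw [Subgroup.closure_le]
    rintro _ ⟨x, rfl⟩
    have hx : kLets.getD x.val 0 < 10 := (show ∀ y : Fin 8, kLets.getD y.val 0 < 10 by decide) x
    have hm : psiGen x ∈ K0 := K0_eq_closure ▸ Subgroup.subset_closure ⟨x, rfl⟩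
    obtain ⟨h1, h2⟩ := mem_K0_iff.1 hm
    refine Subgroup.subset_closure ⟨mem_class_iff.2 ⟨_, (gen_eq_dp _ hx).symm⟩, h1.symm, h2.symm,
      fun e => (kLet_pts x).1 ?_, fun e => (kLet_pts x).2 ?_⟩
    · rw [psiGen, gen_eq_dp _ hx] at e
      rw [dp_injective e]; rfl
    · rw [psiGen, gen_eq_dp _ hx] at e
      rw [dp_injective e, p8_val]
  · rw [Subgroup.closure_le]
    rintro y ⟨-, h1, h2, -, -⟩
    exact mem_K0_iff.2 ⟨h1.symm, h2.symm⟩

/-! ### The fixed points -/

/-- A point given by its number. -/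
noncomputable def pOf (v : ℕ) : Fin table.N := if h : v < table.N then ⟨v, h⟩ else pt

theorem pOf_val {v : ℕ} (h : v < table.N) : (pOf v : ℕ) = v := by rw [pOf, dif_pos h]

theorem pts_spec {v : ℕ} (hv : v ∈ pts) :
    v < table.N ∧ hom a0 (pOf v) = pOf v ∧ hom d0 (pOf v) = pOf v := by
  have h := List.all_eq_true.1 pts_ok v hv
  simp only [Bool.and_eq_true] at h
  have hlt : v < table.N := blt_iff.1 h.1.1
  refine ⟨hlt, ?_, ?_⟩
  · refine Fin.ext ?_
    rw [a0_el, ← runL_word trWord_lt', pOf_val hlt]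
    exact Nat.eq_of_beq_eq_true h.1.2
  · refine Fin.ext ?_
    rw [d0_gen, ← el_single, ← runL_word (by decide), pOf_val hlt]
    exact Nat.eq_of_beq_eq_true h.2

theorem mem_fix_iff {q : Fin table.N} : hom x0 q = q ↔ (q : ℕ) ∈ pts := by
  constructor
  · intro h
    have hr : PTab.runL (rowsOf xWord) q = (q : ℕ) := by
      rw [runL_word xWord_lt]; exact congrArg Fin.val h
    have hq : (q : ℕ) < 31671 := q.2
    rw [← testBit_maskOf]
    rcases lt_or_ge (q : ℕ) 8000 with h1 | h1
    · exact scanL_spec scan0 q (Nat.zero_le _) (by omega) hr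
    rcases lt_or_ge (q : ℕ) 16000 with h2 | h2
    · exact scanL_spec scan1 q h1 (by omega) hr
    rcases lt_or_ge (q : ℕ) 24000 with h3 | h3
    · exact scanL_spec scan2 q h2 (by omega) hr
    exact scanL_spec scan3 q h3 (by omega) hr
  · intro hq
    obtain ⟨hlt, h1, h2⟩ := pts_spec hq
    have e : pOf q = q := Fin.ext (pOf_val hlt)
    rw [e] at h1 h2
    rw [x0_eq, map_mul, Equiv.Perm.mul_apply, h1, h2]

theorem fix_both {q : Fin table.N} (h : hom x0 q = q) : hom a0 q = q ∧ hom d0 q = q := by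
  obtain ⟨hlt, h1, h2⟩ := pts_spec (mem_fix_iff.1 h)
  have e : pOf q = q := Fin.ext (pOf_val hlt)
  rw [e] at h1 h2
  exact ⟨h1, h2⟩

theorem kLet_gpt (x : Fin 8) : hom x0 (gpt (kLets.getD x.val 0)) = gpt (kLets.getD x.val 0) := by
  have hx : kLets.getD x.val 0 < 10 := (show ∀ y : Fin 8, kLets.getD y.val 0 < 10 by decide) x
  have hm : psiGen x ∈ K0 := K0_eq_closure ▸ Subgroup.subset_closure ⟨x, rfl⟩
  obtain ⟨h1, h2⟩ := mem_K0_iff.1 hm
  rw [psiGen, gen_eq_dp _ hx] at h1 h2
  rw [x0_eq, map_mul, Equiv.Perm.mul_apply, commute_dp_iff.1 h1.symm, commute_dp_iff.1 h2.symm]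

/-- The three points. -/
def trio : Set (Fin table.N) := {pt, p8, p1}

theorem tripK_spec {s n : ℕ} (h : tripK s n = true) : ∀ u, s ≤ u → u < s + n →
    (∀ x ∈ kLets, PTab.runL (rowsOf [x]) u = u) → u ∈ [0, 1, 8006] := by
  induction n with
  | zero => intro u hu hu'; omega
  | succ n ih =>
    intro u hu hu' hf
    unfold tripK at h
    simp only [Nat.add_eq, Bool.and_eq_true, Bool.or_eq_true, Bool.not_eq_true'] at h
    rcases Nat.lt_or_eq_of_le (Nat.le_of_lt_succ hu') with h' | rfl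
    · exact ih h.2 u hu h' hf
    · rcases h.1 with h1 | h1
      · exfalso
        rw [Bool.eq_false_iff] at h1
        exact h1 (List.all_eq_true.2 fun x hx => Nat.beq_eq.mpr (hf x hx))
      · simpa using h1

theorem trio_iff {p : Fin table.N} :
    p ∈ trio ↔ ∀ q, hom x0 q = q → hom (dp q) p = p := by
  constructor
  · intro hp q hq
    obtain ⟨h1, h2⟩ := fix_both hq
    have c1 : Commute (dp q) a0 := (commute_dp_iff.2 h1).symm
    have c2 : Commute (dp q) d0 := (commute_dp_iff.2 h2).symm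
    rcases hp with rfl | rfl | rfl
    · exact commute_dp_iff.1 c1
    · exact commute_dp_iff.1 c2
    · rw [← a0_p8, ← Equiv.Perm.mul_apply, ← map_mul, c1.eq, map_mul, Equiv.Perm.mul_apply,
        commute_dp_iff.1 c2]
  · intro h
    have hfix : ∀ x ∈ kLets, PTab.runL (rowsOf [x]) p = (p : ℕ) := by
      intro x hx
      obtain ⟨i, hi, rfl⟩ : ∃ i < 8, kLets.getD i 0 = x :=
        (show ∀ y ∈ kLets, ∃ i < 8, kLets.getD i 0 = y by decide) x hx
      rw [runL_word (by simpa using kLets_lt _ hx), el_single, gen_eq_dp _ (kLets_lt _ hx),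
        h _ (kLet_gpt ⟨i, hi⟩)]
    have hq : (p : ℕ) < 31671 := p.2
    have hm : (p : ℕ) ∈ [0, 1, 8006] := by
      rcases lt_or_ge (p : ℕ) 16000 with h1 | h1
      · exact tripK_spec trip0 p (Nat.zero_le _) (by omega) hfix
      · exact tripK_spec trip1 p h1 (by omega) hfix
    simp only [List.mem_cons, List.not_mem_nil, or_false] at hm
    rcases hm with e | e | e
    · exact Or.inl (Fin.ext e)
    · exact Or.inr (Or.inr (Fin.ext e))
    · exact Or.inr (Or.inl (Fin.ext (e.trans p8_val.symm)))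

/-! ### The symmetric group on the three points and the normaliser -/

/-- The subgroup generated by the two transpositions. -/
noncomputable def S0 : Subgroup Fi23 := Subgroup.closure {a0, d0}

theorem a0_mem : a0 ∈ S0 := Subgroup.subset_closure (Or.inl rfl)
theorem d0_mem : d0 ∈ S0 := Subgroup.subset_closure (Or.inr rfl)

theorem a0_sq : a0 * a0 = 1 := dp_sq _
theorem d0_sq : d0 * d0 = 1 := dp_sq _

theorem a0_inv : a0⁻¹ = a0 := inv_eq_of_mul_eq_one_right a0_sq
theorem d0_inv : d0⁻¹ = d0 := inv_eq_of_mul_eq_one_right d0_sq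

theorem ada : a0 * d0 * a0 = dp p1 := by
  conv_lhs => rw [← a0_inv]; arg 1; arg 1; rw [a0_inv]
  rw [d0, conj_dp, a0_p8]

theorem dad : d0 * a0 * d0 = dp p1 := by
  conv_lhs => rw [← d0_inv]; arg 1; arg 1; rw [d0_inv]
  rw [a0, conj_dp, d0_pt]

theorem braid0 : a0 * d0 * a0 = d0 * a0 * d0 := ada.trans dad.symm

theorem c0_pt : hom (a0 * d0 * a0) pt = p8 := by
  rw [map_mul, map_mul, Equiv.Perm.mul_apply, Equiv.Perm.mul_apply, a0_self, d0_pt]
  conv_lhs => rw [← a0_p8]
  rw [← Equiv.Perm.mul_apply, ← map_mul, a0_sq, map_one, Equiv.Perm.one_apply]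

/-- Six elements. -/
def six : Set Fi23 := {1, a0, d0, a0 * d0, d0 * a0, a0 * d0 * a0}

theorem six_mul {y g : Fi23} (hy : y ∈ six) (hg : g = a0 ∨ g = d0) : g * y ∈ six := by
  have e1 := a0_sq
  have e2 := d0_sq
  have e3 := braid0
  simp only [six, Set.mem_insert_iff, Set.mem_singleton_iff] at hy ⊢
  rcases hg with rfl | rfl <;> rcases hy with rfl | rfl | rfl | rfl | rfl | rfl
  · exact Or.inr (Or.inl (mul_one _))
  · exact Or.inl e1
  · exact Or.inr (Or.inr (Or.inr (Or.inl rfl)))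
  · exact Or.inr (Or.inr (Or.inl (by rw [← mul_assoc, e1, one_mul])))
  · exact Or.inr (Or.inr (Or.inr (Or.inr (Or.inr (by rw [mul_assoc])))))
  · exact Or.inr (Or.inr (Or.inr (Or.inr (Or.inl (by
      rw [mul_assoc a0 d0 a0, ← mul_assoc, e1, one_mul])))))
  · exact Or.inr (Or.inr (Or.inl (mul_one _)))
  · exact Or.inr (Or.inr (Or.inr (Or.inr (Or.inl rfl))))
  · exact Or.inl e2
  · exact Or.inr (Or.inr (Or.inr (Or.inr (Or.inr (by rw [e3, mul_assoc])))))
  · exact Or.inr (Or.inl (by rw [← mul_assoc, e2, one_mul]))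
  · exact Or.inr (Or.inr (Or.inr (Or.inl (by
      rw [e3, ← mul_assoc, ← mul_assoc, e2, one_mul]))))

theorem S0_le_six : (S0 : Set Fi23) ⊆ six := by
  intro y hy
  induction hy using Subgroup.closure_induction_left with
  | one => exact Or.inl rfl
  | mul_left g hg y _ ih => exact six_mul ih (by simpa using hg)
  | inv_mul_cancel g hg y _ ih =>
    rcases (show g = a0 ∨ g = d0 by simpa using hg) with rfl | rfl
    · rw [a0_inv]; exact six_mul ih (Or.inl rfl)
    · rw [d0_inv]; exact six_mul ih (Or.inr rfl)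

theorem card_S0_le : Nat.card S0 ≤ 6 := by
  classical
  have hs : six = ↑({1, a0, d0, a0 * d0, d0 * a0, a0 * d0 * a0} : Finset Fi23) := by simp [six]
  calc Nat.card S0 = (S0 : Set Fi23).ncard := Nat.card_coe_set_eq _
    _ ≤ six.ncard := Set.ncard_le_ncard S0_le_six (by rw [hs]; exact Finset.finite_toSet _)
    _ ≤ 6 := by rw [hs, Set.ncard_coe_finset]; exact Finset.card_le_six

/-- The subgroup generated by the element of order three. -/
noncomputable def X0 : Subgroup Fi23 := Subgroup.zpowers (a0 * d0)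

theorem x0_mem : x0 ∈ X0 := by
  rw [X0, x0_eq, show d0 * a0 = (a0 * d0)⁻¹ by rw [mul_inv_rev, a0_inv, d0_inv]]
  exact inv_mem (Subgroup.mem_zpowers _)

theorem X0_eq : X0 = Subgroup.zpowers x0 := by
  rw [X0, x0_eq, show d0 * a0 = (a0 * d0)⁻¹ by rw [mul_inv_rev, a0_inv, d0_inv], Subgroup.zpowers_inv]

theorem fix_normalizer {n : Fi23} (hn : n ∈ Subgroup.normalizer (X0 : Set Fi23)) {q : Fin table.N}
    (hq : hom x0 q = q) : hom x0 (hom n q) = hom n q := by
  have h1 : n⁻¹ * x0 * n ∈ X0 := by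
    have := (Subgroup.mem_normalizer_iff.1 (inv_mem hn) x0).1 x0_mem
    rwa [inv_inv] at this
  rw [X0_eq] at h1
  have h2 : Commute (dp q) (n⁻¹ * x0 * n) := by
    obtain ⟨k, hk⟩ := Subgroup.mem_zpowers_iff.1 h1
    rw [← hk]
    exact ((commute_dp_iff.2 hq).symm).zpow_right k
  refine commute_dp_iff.1 ?_
  rw [← conj_dp]
  have h3 := h2.symm.map (MulAut.conj n).toMonoidHom
  simpa [mul_assoc] using h3

theorem trio_normalizer {n : Fi23} (hn : n ∈ Subgroup.normalizer (X0 : Set Fi23)) {p : Fin table.N}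
    (hp : p ∈ trio) : hom n p ∈ trio := by
  rw [trio_iff] at hp ⊢
  intro q hq
  have h := hp _ (fix_normalizer (inv_mem hn) hq)
  have e : dp q = n * dp (hom n⁻¹ q) * n⁻¹ := by
    rw [conj_dp, ← Equiv.Perm.mul_apply, ← map_mul, mul_inv_cancel, map_one, Equiv.Perm.one_apply]
  rw [e, map_mul, map_mul, Equiv.Perm.mul_apply, Equiv.Perm.mul_apply, hom_inv_apply, h]

theorem S0_normalizer : S0 ≤ Subgroup.normalizer (X0 : Set Fi23) := by
  have key : ∀ g : Fi23, g * g = 1 → g * (a0 * d0) * g = (a0 * d0)⁻¹ →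
      g ∈ Subgroup.normalizer (X0 : Set Fi23) := by
    intro g hg he
    have hgi : g⁻¹ = g := inv_eq_of_mul_eq_one_right hg
    have hc : ∀ z, z ∈ X0 → g * z * g⁻¹ ∈ X0 := by
      intro z hz
      obtain ⟨k, rfl⟩ := Subgroup.mem_zpowers_iff.1 hz
      rw [← conj_zpow, hgi, he]
      exact zpow_mem (inv_mem (Subgroup.mem_zpowers _)) k
    refine Subgroup.mem_normalizer_iff.2 fun z => ⟨hc z, fun h => ?_⟩
    have h2 := hc _ h
    simpa [hgi, mul_assoc, ← mul_assoc g g, hg] using h2
  rw [S0, Subgroup.closure_le]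
  rintro g (rfl | rfl)
  · exact key _ a0_sq (by rw [mul_inv_rev, a0_inv, d0_inv, ← mul_assoc, a0_sq, one_mul])
  · exact key _ d0_sq (by rw [mul_inv_rev, a0_inv, d0_inv, mul_assoc, mul_assoc, d0_sq, mul_one])

theorem K0_normalizer : K0 ≤ Subgroup.normalizer (X0 : Set Fi23) := by
  intro g hg
  obtain ⟨h1, h2⟩ := mem_K0_iff.1 hg
  refine Subgroup.centralizer_le_normalizer (X0 : Set Fi23) ?_
  rw [X0, centralizer_zpowers]
  exact (h1.mul_right h2).symm

theorem exists_S0 {n : Fi23} (hn : n ∈ Subgroup.normalizer (X0 : Set Fi23)) :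
    ∃ s ∈ S0, s⁻¹ * n ∈ K0 := by
  have hm : a0 * d0 * a0 ∈ S0 := mul_mem (mul_mem a0_mem d0_mem) a0_mem
  obtain ⟨s, hs, hsp⟩ : ∃ s ∈ S0, hom s pt = hom n pt := by
    rcases trio_normalizer hn (p := pt) (Or.inl rfl) with h | h | h
    · exact ⟨1, one_mem _, by rw [map_one, Equiv.Perm.one_apply, h]⟩
    · exact ⟨_, hm, by rw [c0_pt, h]⟩
    · exact ⟨_, d0_mem, by rw [d0_pt, h]⟩
  have hn' : s⁻¹ * n ∈ Subgroup.normalizer (X0 : Set Fi23) := mul_mem (inv_mem (S0_normalizer hs)) hn
  have hpt : hom (s⁻¹ * n) pt = pt := by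
    rw [map_mul, Equiv.Perm.mul_apply, ← hsp, hom_inv_apply]
  rcases trio_normalizer hn' (p := p8) (Or.inr (Or.inl rfl)) with h | h | h
  · exact absurd ((hom (s⁻¹ * n)).injective (h.trans hpt.symm)) pt_ne_p8.symm
  · refine ⟨s, hs, ?_⟩
    rw [← stab2_eq]
    exact ⟨hpt, h⟩
  · refine ⟨s * a0, mul_mem hs a0_mem, ?_⟩
    rw [← stab2_eq, show (s * a0)⁻¹ * n = a0 * (s⁻¹ * n) by rw [mul_inv_rev, a0_inv, mul_assoc]]
    refine ⟨by rw [map_mul, Equiv.Perm.mul_apply, hpt, a0_self], ?_⟩
    rw [map_mul, Equiv.Perm.mul_apply, h, ← a0_p8, ← Equiv.Perm.mul_apply, ← map_mul, a0_sq, map_one,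
      Equiv.Perm.one_apply]

theorem sup_eq : S0 ⊔ K0 = Subgroup.normalizer (X0 : Set Fi23) := by
  refine le_antisymm (sup_le S0_normalizer K0_normalizer) fun n hn => ?_
  obtain ⟨s, hs, hk⟩ := exists_S0 hn
  have := mul_mem (le_sup_left (b := K0) hs) (le_sup_right (a := S0) hk)
  rwa [mul_inv_cancel_left] at this

theorem comm_S0_K0 : ∀ x ∈ S0, ∀ y ∈ K0, x * y = y * x := by
  intro x hx y hy
  obtain ⟨h1, h2⟩ := mem_K0_iff.1 hy
  induction hx using Subgroup.closure_induction with
  | mem z hz =>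
    rcases hz with rfl | rfl
    exacts [h1.eq.symm, h2.eq.symm]
  | one => simp
  | mul a b _ _ ha hb => exact ((show Commute a y from ha).mul_left hb).eq
  | inv a _ ha => exact ((show Commute a y from ha).inv_left).eq

theorem S0_iso_aux :
    ∃ φ : S0 →* Equiv.Perm trio, Function.Bijective φ ∧ ∀ s : S0, ∀ p : trio, (φ s p).1 = hom s.1 p.1 := by
  classical
  have := CosetCert.Fi23P.finite
  have hinv : ∀ s : S0, ∀ p, p ∈ trio ↔ hom s.1 p ∈ trio := fun s p =>
    ⟨fun h => trio_normalizer (S0_normalizer s.2) h, fun h => by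
      have := trio_normalizer (inv_mem (S0_normalizer s.2)) h
      rwa [hom_inv_apply] at this⟩
  let φ : S0 →* Equiv.Perm trio :=
    { toFun := fun s => (hom s.1).subtypePerm fun p => (hinv s p).symm
      map_one' := by ext p; simp
      map_mul' := fun a b => Equiv.ext fun p => Subtype.ext (by
        show hom (a * b).1 p.1 = hom a.1 (hom b.1 p.1)
        rw [Subgroup.coe_mul, map_mul, Equiv.Perm.mul_apply]) }
  refine ⟨φ, ?_, fun _ _ => rfl⟩
  have hcard : Nat.card trio = 3 := by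
    rw [Nat.card_coe_set_eq]
    exact Set.ncard_eq_three.2 ⟨pt, p8, p1, pt_ne_p8, p1_ne_pt.symm, p1_ne_p8.symm, rfl⟩
  have hP : Nat.card (Equiv.Perm trio) = 6 := by rw [Nat.card_perm, hcard]; rfl
  have hsurj : Function.Surjective φ := by
    intro π
    let u : trio := ⟨pt, Or.inl rfl⟩
    let v : trio := ⟨p8, Or.inr (Or.inl rfl)⟩
    have hm : a0 * d0 * a0 ∈ S0 := mul_mem (mul_mem a0_mem d0_mem) a0_mem
    obtain ⟨s, hs, hsp⟩ : ∃ s ∈ S0, hom s pt = (π u).1 := by
      rcases (π u).2 with h | h | h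
      · exact ⟨1, one_mem _, by rw [map_one, Equiv.Perm.one_apply]; exact h.symm⟩
      · exact ⟨_, hm, by rw [c0_pt]; exact h.symm⟩
      · exact ⟨_, d0_mem, by rw [d0_pt]; exact h.symm⟩
    obtain ⟨t, ht, htp, htq⟩ : ∃ t ∈ S0, hom t pt = (π u).1 ∧ hom t p8 = (π v).1 := by
      have hne : (π v).1 ≠ (π u).1 := fun e =>
        pt_ne_p8 (congrArg Subtype.val (π.injective (Subtype.ext e))).symm
      have hsv : hom s⁻¹ (π v).1 ∈ trio := trio_normalizer (inv_mem (S0_normalizer hs)) (π v).2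
      have hsk : hom s (hom s⁻¹ (π v).1) = (π v).1 := by
        rw [← Equiv.Perm.mul_apply, ← map_mul, mul_inv_cancel, map_one, Equiv.Perm.one_apply]
      rcases hsv with h | h | h
      · exact absurd (by rw [← hsk, h, hsp]) hne
      · exact ⟨s, hs, hsp, by rw [← hsk, h]⟩
      · refine ⟨s * a0, mul_mem hs a0_mem, ?_, ?_⟩
        · rw [map_mul, Equiv.Perm.mul_apply, a0_self, hsp]
        · rw [map_mul, Equiv.Perm.mul_apply, a0_p8, ← hsk, h]
    refine ⟨⟨t, ht⟩, Equiv.ext fun p => ?_⟩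
    -- a permutation of three points is known from two images
    have h1 : φ ⟨t, ht⟩ u = π u := Subtype.ext htp
    have h2 : φ ⟨t, ht⟩ v = π v := Subtype.ext htq
    rcases p.2 with h | h | h
    · rw [show p = u from Subtype.ext h]; exact h1
    · rw [show p = v from Subtype.ext h]; exact h2
    · have hu : p ≠ u := fun e => p1_ne_pt (h.symm.trans (congrArg Subtype.val e))
      have hv : p ≠ v := fun e => p1_ne_p8 (h.symm.trans (congrArg Subtype.val e))
      by_contra hne
      let A : Finset trio := {π u, π v, φ ⟨t, ht⟩ p, π p}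
      have hA : A.card = 4 := by
        have huv : π u ≠ π v := fun e => pt_ne_p8 (congrArg Subtype.val (π.injective e))
        have hup : π u ≠ φ ⟨t, ht⟩ p := fun e => hu ((φ ⟨t, ht⟩).injective (h1.trans e)).symm
        have hvp : π v ≠ φ ⟨t, ht⟩ p := fun e => hv ((φ ⟨t, ht⟩).injective (h2.trans e)).symm
        have hup' : π u ≠ π p := fun e => hu (π.injective e).symm
        have hvp' : π v ≠ π p := fun e => hv (π.injective e).symm
        simp [A, huv, hup, hvp, hup', hvp', hne]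
      have := A.card_le_univ
      rw [← Nat.card_eq_fintype_card, hcard, hA] at this
      omega
  have h1 := Nat.card_le_card_of_surjective φ hsurj
  have h2 := card_S0_le
  exact (Nat.bijective_iff_surjective_and_card φ).2 ⟨hsurj, by omega⟩

theorem S0_iso : Nonempty (↥S0 ≃* Equiv.Perm (Fin 3)) := by
  classical
  obtain ⟨φ, hφ, -⟩ := S0_iso_aux
  have hcard : Nat.card trio = 3 := by
    rw [Nat.card_coe_set_eq]
    exact Set.ncard_eq_three.2 ⟨pt, p8, p1, pt_ne_p8, p1_ne_pt.symm, p1_ne_p8.symm, rfl⟩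
  exact ⟨(MulEquiv.ofBijective φ hφ).trans
    (Finite.equivFinOfCardEq hcard).permCongrHom⟩

theorem inf_eq : S0 ⊓ K0 = ⊥ := by
  obtain ⟨φ, hφ, happ⟩ := S0_iso_aux
  rw [eq_bot_iff]
  rintro s ⟨hs, hk⟩
  obtain ⟨h1, h2⟩ := stab2_eq.symm ▸ hk
  have e : φ ⟨s, hs⟩ = φ 1 := by
    rw [map_one]
    refine Equiv.ext fun p => Subtype.ext ?_
    rw [happ, Equiv.Perm.one_apply]
    rcases p.2 with h | h | h
    · rw [h]; exact h1
    · rw [h]; exact h2
    · rw [h, ← a0_p8, ← Equiv.Perm.mul_apply, ← map_mul, (mem_K0_iff.1 hk).1.eq, map_mul,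
        Equiv.Perm.mul_apply, h2]
  exact Subgroup.mem_bot.2 (congrArg Subtype.val (hφ.1 e))

/-! ### Seven is the width -/

theorem pts_get {i : ℕ} (hi : i < pts.length) : pts.getD i 31671 ∈ pts := by
  rw [List.getD_eq_getElem _ _ hi]; exact List.getElem_mem hi

theorem x0_comm {g : Fi23} (hg : g ∈ K0) : Commute g x0 := by
  obtain ⟨h1, h2⟩ := mem_K0_iff.1 hg
  rw [x0_eq]
  exact h2.mul_right h1

theorem fix_K0 {g : Fi23} (hg : g ∈ K0) {q : Fin table.N} (h : hom x0 q = q) :
    hom x0 (hom g q) = hom g q := by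
  rw [← Equiv.Perm.mul_apply, ← map_mul, ← (x0_comm hg).eq, map_mul, Equiv.Perm.mul_apply, h]

theorem reach : ∀ i < pts.length, ∃ g ∈ K0, hom g (pOf first.1) = pOf (pts.getD i 31671) := by
  intro i
  induction i using Nat.strong_induction_on with
  | _ i ih =>
    intro hi
    have hf := forest_ok
    simp only [forestK, Bool.and_eq_true] at hf
    have h := List.all_eq_true.1 hf.2 i (List.mem_range.2 hi)
    rcases Nat.eq_zero_or_pos i with rfl | hpos
    · exact ⟨1, one_mem _, by rw [map_one, Equiv.Perm.one_apply, Nat.eq_of_beq_eq_true hf.1]⟩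
    · rw [Bool.eq_false_iff.2 (fun e => hpos.ne' (Nat.eq_of_beq_eq_true e)), Bool.false_or] at h
      simp only [Bool.and_eq_true, Nat.blt_eq] at h
      obtain ⟨⟨hp, hk⟩, he⟩ := h
      obtain ⟨g, hg, hgp⟩ := ih _ hp (hp.trans hi)
      set k := (par.getD i (351, 0)).2
      have hx : ∀ y ∈ [kLets.getD k 0], y < 10 := by
        simpa using (show ∀ y < 8, kLets.getD y 0 < 10 by decide) k hk
      have hm : coding.gen (kLets.getD k 0) ∈ K0 :=
        K0_eq_closure ▸ Subgroup.subset_closure ⟨⟨k, hk⟩, rfl⟩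
      refine ⟨_, mul_mem hm hg, ?_⟩
      rw [map_mul, Equiv.Perm.mul_apply, hgp]
      refine Fin.ext ?_
      rw [← el_single, el_img hx, pOf_val (pts_spec (pts_get (hp.trans hi))).1,
        Nat.eq_of_beq_eq_true he, pOf_val (pts_spec (pts_get hi)).1]

theorem half_spec {e : ℕ × List ℕ × ℕ} (he : halfK e.1 e.2 = true) (hlt : e.1 < table.N)
    (q : Fin table.N) : Adj (pOf e.1) q ↔ PTab.runL (rowsOf (fullWord e.2)) q = (q : ℕ) := by
  have hK : halfK (pOf e.1 : ℕ) e.2 = true := by rwa [pOf_val hlt]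
  rw [runL_word (fullWord_lt hK), ← dp_of_half hK, Fin.val_inj]
  rfl

theorem first_mem : first.1 ∈ pts := by
  have hf := forest_ok
  simp only [forestK, Bool.and_eq_true] at hf
  rw [← Nat.eq_of_beq_eq_true hf.1]
  exact pts_get (by decide)

theorem nbr_len : nbr.length = 126 := by decide

theorem nbr_half {j : ℕ} (hj : j < 126) :
    halfK (nbr.getD j (0, [], 0)).1 (nbr.getD j (0, [], 0)).2 = true := by
  have h := nbr_ok
  simp only [nbrK, Bool.and_eq_true] at h
  refine List.all_eq_true.1 h.1.2 _ ?_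
  rw [List.getD_eq_getElem _ _ (by rw [nbr_len]; exact hj)]
  exact List.getElem_mem _

theorem nbr_mem {q : Fin table.N} (hq : (q : ℕ) ∈ pts) (hne : q ≠ pOf first.1)
    (hadj : Adj (pOf first.1) q) : ∃ j < 126, (nbr.getD j (0, [], 0)).1 = (q : ℕ) := by
  have h := nbr_ok
  simp only [nbrK, Bool.and_eq_true] at h
  have hlt := (pts_spec first_mem).1
  have hh := List.all_eq_true.1 h.2 _ hq
  rw [Bool.or_eq_true, Bool.or_eq_true] at hh
  rcases hh with (hh | hh) | hh
  · exact absurd (Fin.ext ((Nat.eq_of_beq_eq_true hh).trans (pOf_val hlt).symm)) hne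
  · rw [Bool.not_eq_true'] at hh
    rw [Nat.beq_eq.mpr ((half_spec h.1.1 hlt q).1 hadj)] at hh
    exact absurd hh (by simp)
  · rw [List.contains_iff_mem, List.mem_map] at hh
    obtain ⟨e, he, hev⟩ := hh
    obtain ⟨j, hj, rfl⟩ := List.getElem_of_mem he
    exact ⟨j, nbr_len ▸ hj, by rw [List.getD_eq_getElem _ _ hj]; exact hev⟩

theorem adj_bit {i j : ℕ} (hi : i < 126) (hj : j < i)
    (h : PTab.runL (rowsOf (nbrWord i)) (nbr.getD j (0, [], 0)).1 = (nbr.getD j (0, [], 0)).1) :
    Nat.testBit (adjMask.getD i 0) j = true := by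
  have key : ∀ {s n : ℕ}, adjK s n = true → s ≤ i → i < s + n →
      Nat.testBit (adjMask.getD i 0) j = true := by
    intro s n hK h1 h2
    have := List.all_eq_true.1 hK (i - s) (List.mem_range.2 (by omega))
    simp only [Nat.add_eq, show s + (i - s) = i by omega] at this
    have h3 := List.all_eq_true.1 this j (List.mem_range.2 hj)
    rw [Nat.beq_eq.mpr h, Bool.not_true, Bool.or_false] at h3
    exact h3
  rcases lt_or_ge i 90 with h1 | h1
  · exact key adj0 (Nat.zero_le _) (by omega)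
  · exact key adj1 h1 (by omega)

theorem clique_bound (E : Finset (Fin table.N)) (hE : ∀ q ∈ E, hom x0 q = q)
    (hA : ∀ a ∈ E, ∀ b ∈ E, a ≠ b → Adj a b) : E.card ≤ 7 := by
  classical
  rcases E.eq_empty_or_nonempty with rfl | ⟨p, hp⟩
  · simp
  obtain ⟨i, hi, hpi⟩ := List.getElem_of_mem (mem_fix_iff.1 (hE p hp))
  obtain ⟨g, hg, hgp⟩ := reach i hi
  have hpi' : pOf (pts.getD i 31671) = p :=
    Fin.ext (by rw [pOf_val (pts_spec (pts_get hi)).1, List.getD_eq_getElem _ _ hi, hpi])
  rw [hpi'] at hgp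
  set f : Fin table.N := pOf first.1
  set E' : Finset (Fin table.N) := (E.image (hom g⁻¹)).erase f with hE'def
  have hcard : E.card ≤ E'.card + 1 := by
    rw [← Finset.card_image_of_injective E (hom g⁻¹).injective, hE'def]
    have := Finset.pred_card_le_card_erase (s := E.image (hom g⁻¹)) (a := f)
    omega
  have hfix : ∀ q ∈ E', (q : ℕ) ∈ pts ∧ q ≠ f ∧ Adj f q := by
    intro q hq
    rw [hE'def, Finset.mem_erase, Finset.mem_image] at hq
    obtain ⟨hne, r, hr, rfl⟩ := hq
    refine ⟨mem_fix_iff.1 (fix_K0 (inv_mem hg) (hE r hr)), hne, ?_⟩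
    have hrp : p ≠ r := fun e => hne (by rw [← e, ← hgp, hom_inv_apply])
    have := adj_conj (g := g⁻¹) (hA p hp r hr hrp)
    rwa [show hom g⁻¹ p = f by rw [← hgp, hom_inv_apply]] at this
  have hidx : ∀ q ∈ E', ∃ j < 126, (nbr.getD j (0, [], 0)).1 = (q : ℕ) := fun q hq =>
    nbr_mem (hfix q hq).1 (hfix q hq).2.1 (hfix q hq).2.2
  choose F hF1 hF2 using hidx
  set J : Finset ℕ := E'.attach.image fun q => F q.1 q.2
  have hJ : J.card = E'.card := by
    rw [Finset.card_image_of_injective _ fun a b e => Subtype.ext (Fin.ext ?_), Finset.card_attach]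
    rw [← hF2 a.1 a.2, ← hF2 b.1 b.2]
    exact congrArg (fun j => (nbr.getD j (0, [], 0)).1) e
  have hJ6 : J.card ≤ 6 := by
    refine dfs_sound adjMask 6 _ dfs_ok J (fun j hj => ?_) fun a ha b hb hlt => ?_
    · obtain ⟨q, -, rfl⟩ := Finset.mem_image.1 hj
      show Nat.testBit (2 ^ 126 - 1) _ = true
      rw [Nat.testBit_two_pow_sub_one]
      simp [hF1 q.1 q.2]
    · obtain ⟨qa, -, rfl⟩ := Finset.mem_image.1 ha
      obtain ⟨qb, -, rfl⟩ := Finset.mem_image.1 hb
      refine adj_bit (hF1 _ _) hlt ?_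
      have hne : qa.1 ≠ qb.1 := fun e => by
        rw [Subtype.ext e] at hlt
        exact lt_irrefl _ hlt
      obtain ⟨ra, hra, ea⟩ := Finset.mem_image.1 (Finset.mem_of_mem_erase qa.2)
      obtain ⟨rb, hrb, eb⟩ := Finset.mem_image.1 (Finset.mem_of_mem_erase qb.2)
      have hadj : Adj qa.1 qb.1 := by
        rw [← ea, ← eb]
        exact adj_conj (hA ra hra rb hrb fun e => hne (by rw [← ea, ← eb, e]))
      have hva : (nbr.getD (F qa.1 qa.2) (0, [], 0)).1 < table.N := by rw [hF2]; exact qa.1.2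
      have e1 : pOf (nbr.getD (F qa.1 qa.2) (0, [], 0)).1 = qa.1 :=
        Fin.ext (by rw [pOf_val hva, hF2])
      rw [hF2 qb.1 qb.2]
      exact (half_spec (nbr_half (hF1 qa.1 qa.2)) hva qb.1).1 (e1.symm ▸ hadj)
  omega

theorem width_X0 : Cfsg.commutingWidth (classTr ∩
    (Subgroup.centralizer ((X0 : Subgroup Fi23) : Set Fi23) : Set Fi23)) = 7 := by
  classical
  rw [X0_eq, class_inter_centralizer]
  have hc : ∀ i < 7, (cliquePt i).1 ∈ pts ∧ halfK (cliquePt i).1 (cliquePt i).2 = true ∧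
      ∀ j < 7, PTab.runL (rowsOf (fullWord (cliquePt i).2)) (cliquePt j).1 = (cliquePt j).1 ∧
        (i ≠ j → (cliquePt i).1 ≠ (cliquePt j).1) := by
    intro i hi
    have h := List.all_eq_true.1 clique_ok i (List.mem_range.2 hi)
    simp only [Bool.and_eq_true, List.contains_iff_mem, List.all_eq_true, List.mem_range,
      Bool.or_eq_true, Nat.blt_eq, Bool.not_eq_true'] at h
    obtain ⟨⟨h1, h2⟩, h3⟩ := h
    refine ⟨h1, ?_, fun j hj => ⟨Nat.eq_of_beq_eq_true (h2 j hj).1, fun hij e => ?_⟩⟩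
    · rcases Nat.eq_zero_or_pos i with rfl | hpos
      · have h := nbr_ok
        simp only [nbrK, Bool.and_eq_true] at h
        exact h.1.1
      · rw [cliquePt, if_neg hpos.ne']
        refine nbr_half ?_
        rcases h3 with h3 | h3
        · exact absurd (Nat.eq_of_beq_eq_true h3) hpos.ne'
        · exact h3
    · rcases (h2 j hj).2 with h4 | h4
      · exact hij (Nat.eq_of_beq_eq_true h4)
      · rw [Nat.beq_eq.mpr e] at h4
        exact Bool.noConfusion h4
  have hlt : ∀ i : Fin 7, (cliquePt i).1 < table.N := fun i => (pts_spec (hc i i.2).1).1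
  refine width_dp _ 7 (Finset.univ.image fun i : Fin 7 => pOf (cliquePt i).1) ?_ ?_ ?_
    fun E hE hA => clique_bound E (fun q hq => hE hq) hA
  · intro q hq
    obtain ⟨i, -, rfl⟩ := Finset.mem_image.1 (Finset.mem_coe.1 hq)
    show hom x0 _ = _
    rw [mem_fix_iff, pOf_val (hlt i)]
    exact (hc i i.2).1
  · intro a ha b hb
    obtain ⟨i, -, rfl⟩ := Finset.mem_image.1 ha
    obtain ⟨j, -, rfl⟩ := Finset.mem_image.1 hb
    rw [half_spec (hc i i.2).2.1 (hlt i), pOf_val (hlt j)]
    exact ((hc i i.2).2.2 j j.2).1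
  · rw [Finset.card_image_of_injective _ fun i j e => ?_]
    · rfl
    · by_contra hne
      refine ((hc i i.2).2.2 j j.2).2 (fun h => hne (Fin.ext h)) ?_
      rw [← pOf_val (hlt i), ← pOf_val (hlt j)]
      exact congrArg Fin.val e

/-! ### Transport -/

/-- Any two non-commuting transpositions are the chosen ones up to conjugation. -/
theorem exists_conj {a d : Fi23} (ha : a ∈ classTr) (hd : d ∈ classTr) (hnc : ¬ Commute a d) :
    ∃ g : Fi23, g * a * g⁻¹ = a0 ∧ g * d * g⁻¹ = d0 := by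
  obtain ⟨p, rfl⟩ := mem_class_iff.1 ha
  obtain ⟨q, rfl⟩ := mem_class_iff.1 hd
  obtain ⟨c, hc⟩ := transitive p
  have hp : hom c⁻¹ p = pt := by rw [← hc, hom_inv_apply]
  have hna : ¬ Adj pt (hom c⁻¹ q) := by
    intro h
    refine hnc (adj_iff.1 ?_)
    have := adj_conj (g := c) h
    rwa [hc, ← Equiv.Perm.mul_apply, ← map_mul, mul_inv_cancel, map_one, Equiv.Perm.one_apply] at this
  have hcl : forestH.cls (hom c⁻¹ q : Fin table.N) = 2 := by
    rcases pt_cases (hom c⁻¹ q) with h | h | h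
    · exact absurd (by rw [h]; exact a0_self) hna
    · refine absurd ?_ hna
      show hom (dp pt) _ = _
      rw [← tr_eq_dp]
      exact tr_fix_one _ h
    · exact h
  have h8 : forestH.cls (p8 : ℕ) = 2 := by rw [p8_val]; decide +kernel
  obtain ⟨k, hk, hkq⟩ := exists_sub_of_class (u := p8) (v := hom c⁻¹ q) (h8.trans hcl.symm)
  refine ⟨k * c⁻¹, ?_, ?_⟩
  · rw [conj_dp, map_mul, Equiv.Perm.mul_apply, hp, hom_fix k hk]; rfl
  · rw [conj_dp, map_mul, Equiv.Perm.mul_apply, hkq]; rfl

variable {G : Type*} [Group G] {D : Set G}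

/-- The statement, from an isomorphism carrying the transpositions to those of Fi23. -/
theorem of_equiv (e : G ≃* Fi23) (he : e '' D = classTr) (a d : G) (ha : a ∈ D) (hd : d ∈ D)
    (hnc : ¬ Commute a d) (X S K : Subgroup G) (hX : X = Subgroup.zpowers (a * d))
    (hS : S = Subgroup.closure ({a, d} : Set G))
    (hK : K = Subgroup.closure {y : G | y ∈ D ∧ Commute a y ∧ Commute d y ∧ y ≠ a ∧ y ≠ d}) :
    S ⊓ K = ⊥ ∧ (∀ x ∈ S, ∀ y ∈ K, x * y = y * x) ∧
      S ⊔ K = Subgroup.normalizer ((X : Subgroup G) : Set G) ∧ Nonempty (↥S ≃* Equiv.Perm (Fin 3)) ∧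
      K = Subgroup.centralizer ({a, d} : Set G) ∧
      Nonempty (↥K ≃* Cfsg.POmega (ZMod 3) (Cfsg.quadFormOdd 3 (ZMod 3))) ∧
      Cfsg.commutingWidth (D ∩ (Subgroup.centralizer ((X : Subgroup G) : Set G) : Set G)) = 7 := by
  have hea : e a ∈ classTr := he ▸ Set.mem_image_of_mem _ ha
  have hed : e d ∈ classTr := he ▸ Set.mem_image_of_mem _ hd
  obtain ⟨g, hga, hgd⟩ := exists_conj hea hed fun h => hnc (e.injective (by simpa using h.eq))
  let f : G ≃* Fi23 := e.trans (MulAut.conj g)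
  have hfa : f a = a0 := hga
  have hfd : f d = d0 := hgd
  have hf : f '' D = classTr := by
    show (fun y => MulAut.conj g (e y)) '' D = _
    rw [← Set.image_image (MulAut.conj g) e, he, class_conj_image]
  have hS' : S.map f.toMonoidHom = S0 := by
    rw [hS, MonoidHom.map_closure, Set.image_insert_eq, Set.image_singleton, MulEquiv.coe_toMonoidHom,
      hfa, hfd, S0]
  have hK' : K.map f.toMonoidHom = K0 := by
    rw [hK, MonoidHom.map_closure, K0_eq_set]
    congr 1
    ext y
    obtain ⟨z, rfl⟩ := f.surjective y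
    rw [MulEquiv.coe_toMonoidHom, f.injective.mem_set_image, ← hf, Set.mem_ofPred_eq, Set.mem_ofPred_eq,
      f.injective.mem_set_image, ← hfa, ← hfd]
    simp only [ne_eq, f.injective.eq_iff]
    refine and_congr Iff.rfl (and_congr ⟨fun h => h.map f.toMonoidHom, fun h => ?_⟩
      (and_congr ⟨fun h => h.map f.toMonoidHom, fun h => ?_⟩ Iff.rfl))
    · exact f.injective (by simpa using h.eq)
    · exact f.injective (by simpa using h.eq)
  have hX' : X.map f.toMonoidHom = X0 := by
    rw [hX, MonoidHom.map_zpowers, map_mul, MulEquiv.coe_toMonoidHom, hfa, hfd, X0]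
  have hinj := Subgroup.map_injective (f := f.toMonoidHom) f.injective
  refine ⟨hinj ?_, fun x hx y hy => f.injective ?_, hinj ?_, ?_, hinj ?_, ?_, ?_⟩
  · rw [Subgroup.map_inf_eq _ _ _ f.injective, hS', hK', inf_eq, Subgroup.map_bot]
  · rw [map_mul, map_mul]
    exact comm_S0_K0 _ (hS' ▸ Subgroup.mem_map_of_mem _ hx) _ (hK' ▸ Subgroup.mem_map_of_mem _ hy)
  · rw [Subgroup.map_sup, hS', hK', sup_eq, Subgroup.map_equiv_normalizer_eq, hX']
  · obtain ⟨i⟩ := S0_iso
    exact ⟨((Subgroup.equivMapOfInjective S f.toMonoidHom f.injective).trans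
      (MulEquiv.subgroupCongr hS')).trans i⟩
  · rw [hK', K0_eq_centralizer]
    ext y
    obtain ⟨z, rfl⟩ := f.surjective y
    rw [← MulEquiv.coe_toMonoidHom, Subgroup.mem_map_iff_mem f.injective, MulEquiv.coe_toMonoidHom,
      Subgroup.mem_centralizer_iff, Subgroup.mem_centralizer_iff]
    simp only [Set.mem_insert_iff, Set.mem_singleton_iff, forall_eq_or_imp, forall_eq, ← hfa, ← hfd,
      ← map_mul, f.injective.eq_iff]
  · obtain ⟨i⟩ := K0_iso
    exact ⟨((Subgroup.equivMapOfInjective K f.toMonoidHom f.injective).trans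
      (MulEquiv.subgroupCongr hK')).trans i⟩
  · rw [width_map f hf X, hX', width_X0]

end CfsgLib.Sporadic.FiTransfer.Local23.Seven
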