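import Cfsg.Agent.Lib.Sporadic.Fi23Out.Inj
import Cfsg.Agent.Lib.Sporadic.Fi23Class
import Cfsg.Agent.Lib.Sporadic.FiTransfer23.Model
import Cfsg.Prelude.Def_FischerSpaces

/-!
# Points and transpositions of the presented Fi23 for the 3-local statements

The transpositions are the `dp p`; the members centralising an element are those of its fixed
points.  The width of such a set is the largest clique in the commuting relation on points.
-/

set_option autoImplicit false
set_option maxRecDepth 100000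

open Cfsg.Spor

namespace CfsgLib.Sporadic.FiTransfer.Local23

open CosetCert CosetCert.Fi23P
open CosetCert.Fi23Data (table)
open CosetCert.Fi23P.Two (el el_img dp dp_eq conj_dp comm_of_fix zz)
open CfsgLib.Sporadic.FiTransfer23 (classTr)
open CosetCert.Fi23P.OutFi (dp_injective dp_sq dp_ne_one rowsOf zz_eq_dp)

attribute [local irreducible] PTab.img Forest.cls

theorem tr_eq_dp : tr = dp pt := by
  have hz : (⟨zz, relE7_mem⟩ : sub lH) ∈ toFi22.ker := by
    rw [← center_eq, Subgroup.mem_center_iff]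
    exact fun k => Subtype.ext (Two.zz_comm k.2).eq
  have hne : zz ≠ 1 := by
    rw [zz_eq_dp]
    exact dp_ne_one pt
  obtain ⟨a, -, hu⟩ := (Nat.card_eq_two_iff' (1 : toFi22.ker)).1 card_ker_toFi22
  have e1 := hu ⟨_, tr_mem_ker⟩ fun e => tr_ne_one (congrArg (fun k : toFi22.ker => (k.1 : Fi23)) e)
  have e2 := hu ⟨_, hz⟩ fun e => hne (congrArg (fun k : toFi22.ker => (k.1 : Fi23)) e)
  exact (congrArg (fun k : toFi22.ker => (k.1 : Fi23)) (e1.trans e2.symm)).trans zz_eq_dp

theorem mem_class_iff {y : Fi23} : y ∈ classTr ↔ ∃ p, dp p = y := by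
  rw [classTr, conjugatesOf, Set.mem_ofPred_eq, tr_eq_dp, isConj_iff]
  constructor
  · rintro ⟨g, rfl⟩
    exact ⟨_, (conj_dp g pt).symm⟩
  · rintro ⟨p, rfl⟩
    obtain ⟨g, hg⟩ := transitive p
    exact ⟨g, by rw [conj_dp, hg]⟩

theorem commute_dp_iff {g : Fi23} {p : Fin table.N} : Commute g (dp p) ↔ hom g p = p := by
  refine ⟨fun h => dp_injective ?_, comm_of_fix⟩
  rw [← conj_dp, h.eq, mul_inv_cancel_right]

theorem centralizer_zpowers (x y : Fi23) :
    y ∈ Subgroup.centralizer ((Subgroup.zpowers x : Subgroup Fi23) : Set Fi23) ↔ Commute x y := by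
  rw [Subgroup.mem_centralizer_iff]
  refine ⟨fun h => h x (Subgroup.mem_zpowers x), fun h z hz => ?_⟩
  obtain ⟨k, rfl⟩ := Subgroup.mem_zpowers_iff.1 hz
  exact (h.zpow_left k).eq

theorem class_inter_centralizer (x : Fi23) :
    classTr ∩ (Subgroup.centralizer ((Subgroup.zpowers x : Subgroup Fi23) : Set Fi23) : Set Fi23) =
      dp '' {p | hom x p = p} := by
  ext y
  simp only [Set.mem_inter_iff, Set.mem_image, Set.mem_ofPred_eq, SetLike.mem_coe,
    centralizer_zpowers, mem_class_iff]
  constructor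
  · rintro ⟨⟨p, rfl⟩, h⟩
    exact ⟨p, commute_dp_iff.1 h, rfl⟩
  · rintro ⟨p, hp, rfl⟩
    exact ⟨⟨p, rfl⟩, commute_dp_iff.2 hp⟩

/-- Points whose transpositions commute. -/
def Adj (p q : Fin table.N) : Prop := hom (dp p) q = q

theorem adj_iff {p q : Fin table.N} : Adj p q ↔ Commute (dp p) (dp q) := commute_dp_iff.symm

theorem Adj.symm {p q : Fin table.N} (h : Adj p q) : Adj q p := adj_iff.2 (adj_iff.1 h).symm

theorem adj_conj {g : Fi23} {p q : Fin table.N} (h : Adj p q) : Adj (hom g p) (hom g q) := by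
  rw [adj_iff, ← conj_dp, ← conj_dp]
  exact (adj_iff.1 h).map (MulAut.conj g).toMonoidHom

/-- The width of the transpositions of a set of points. -/
theorem width_dp (S : Set (Fin table.N)) (n : ℕ) (E₀ : Finset (Fin table.N))
    (hE₀ : ↑E₀ ⊆ S) (hcl : ∀ a ∈ E₀, ∀ b ∈ E₀, Adj a b) (hn : E₀.card = n)
    (hle : ∀ E : Finset (Fin table.N), ↑E ⊆ S → (∀ a ∈ E, ∀ b ∈ E, a ≠ b → Adj a b) → E.card ≤ n) :
    Cfsg.commutingWidth (dp '' S) = n := by
  refine IsGreatest.csSup_eq ⟨⟨dp '' ↑E₀, Set.image_mono hE₀, E₀.finite_toSet.image _, ?_, ?_⟩, ?_⟩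
  · rintro _ ⟨a, ha, rfl⟩ _ ⟨b, hb, rfl⟩
    exact adj_iff.1 (hcl a ha b hb)
  · rw [Set.ncard_image_of_injective _ dp_injective, Set.ncard_coe_finset, hn]
  · rintro m ⟨E, hE, -, hc, rfl⟩
    have hE' : E = dp '' (dp ⁻¹' E) := by
      rw [Set.image_preimage_eq_inter_range, Set.inter_eq_left.2]
      exact hE.trans (Set.image_subset_range _ _)
    have hfin : (dp ⁻¹' E).Finite := Set.toFinite _
    rw [hE', Set.ncard_image_of_injective _ dp_injective, Set.ncard_eq_toFinset_card _ hfin]
    refine hle _ ?_ ?_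
    · intro p hp
      rw [Set.Finite.coe_toFinset] at hp
      obtain ⟨q, hq, e⟩ := hE hp
      rwa [← dp_injective e]
    · intro a ha b hb _
      rw [Set.Finite.mem_toFinset] at ha hb
      exact adj_iff.2 (hc _ ha _ hb)

/-! ### Transport along an isomorphism -/

section Transport

variable {G : Type*} [Group G] {D : Set G} (e : G ≃* Fi23)

theorem width_transport {G' : Type*} [Group G'] (f : G ≃* G') (D : Set G) :
    Cfsg.commutingWidth (f '' D) = Cfsg.commutingWidth D := by
  unfold Cfsg.commutingWidth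
  congr 1
  ext n
  simp only [Set.mem_ofPred_eq]
  constructor
  · rintro ⟨E, hE, hf, hc, rfl⟩
    refine ⟨f ⁻¹' E, fun x hx => ?_, hf.preimage f.injective.injOn, fun a ha b hb => ?_, ?_⟩
    · obtain ⟨y, hy, he⟩ := hE hx
      rwa [← f.injective he]
    · exact f.injective (by simpa using (hc _ ha _ hb).eq)
    · exact Set.ncard_preimage_of_injective_subset_range f.injective
        (hE.trans (Set.image_subset_range _ _))
  · rintro ⟨E, hE, hf, hc, rfl⟩
    refine ⟨f '' E, Set.image_mono hE, hf.image _, ?_, Set.ncard_image_of_injective _ f.injective⟩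
    rintro _ ⟨a, ha, rfl⟩ _ ⟨b, hb, rfl⟩
    exact (hc a ha b hb).map f.toMonoidHom

theorem map_inter_centralizer (he : e '' D = classTr) (X : Subgroup G) :
    e '' (D ∩ (Subgroup.centralizer ((X : Subgroup G) : Set G) : Set G)) =
      classTr ∩
        (Subgroup.centralizer ((X.map e.toMonoidHom : Subgroup Fi23) : Set Fi23) : Set Fi23) := by
  rw [Set.image_inter e.injective, he]
  congr 1
  ext y
  obtain ⟨z, rfl⟩ := e.surjective y
  rw [Function.Injective.mem_set_image e.injective, SetLike.mem_coe, SetLike.mem_coe,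
    Subgroup.mem_centralizer_iff, Subgroup.mem_centralizer_iff]
  constructor
  · rintro h _ ⟨a, ha, rfl⟩
    show e a * e z = e z * e a
    rw [← map_mul, h a ha, map_mul]
  · intro h a ha
    apply e.injective
    rw [map_mul, map_mul]
    exact h (e a) ⟨a, ha, rfl⟩

theorem width_map (he : e '' D = classTr) (X : Subgroup G) :
    Cfsg.commutingWidth (D ∩ (Subgroup.centralizer ((X : Subgroup G) : Set G) : Set G)) =
      Cfsg.commutingWidth (classTr ∩
        (Subgroup.centralizer ((X.map e.toMonoidHom : Subgroup Fi23) : Set Fi23) : Set Fi23)) := by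
  rw [← map_inter_centralizer e he, width_transport]

end Transport

theorem class_conj_image (g : Fi23) : MulAut.conj g '' classTr = classTr := by
  ext y
  constructor
  · rintro ⟨z, hz, rfl⟩
    exact IsConj.trans hz (isConj_iff.2 ⟨g, rfl⟩)
  · intro hy
    refine ⟨g⁻¹ * y * g, IsConj.trans hy (isConj_iff.2 ⟨g⁻¹, by group⟩), ?_⟩
    rw [MulAut.conj_apply]
    group

/-- Conjugate subgroups have the same width. -/
theorem width_conj (g : Fi23) (X : Subgroup Fi23) :
    Cfsg.commutingWidth
        (classTr ∩ (Subgroup.centralizer ((X : Subgroup Fi23) : Set Fi23) : Set Fi23)) =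
      Cfsg.commutingWidth (classTr ∩ (Subgroup.centralizer
        ((X.map (MulAut.conj g).toMonoidHom : Subgroup Fi23) : Set Fi23) : Set Fi23)) :=
  width_map (MulAut.conj g) (class_conj_image g) X

end CfsgLib.Sporadic.FiTransfer.Local23
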