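import Cfsg.Agent.Lib.Sporadic.CosetCertFast

/-!
# A search bounding cliques, and a scan for fixed points
-/

set_option autoImplicit false

namespace CfsgLib.Sporadic.FiTransfer.Local23

/-- Evaluate the argument before applying. -/
noncomputable def force {α : Type} (f : ℕ → α) (v : ℕ) : α :=
  Nat.rec (motive := fun _ => α) (f 0) (fun w _ => f (Nat.succ w)) v

theorem force_eq {α : Type} (f : ℕ → α) (v : ℕ) : force f v = f v := by cases v <;> rfl

/-- One level of the search: `p` is the bit of the head of the list. -/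
noncomputable def scanB (next : ℕ → Bool) (c : ℕ) (L : List ℕ) : ℕ → Bool :=
  List.rec (motive := fun _ => ℕ → Bool) (fun p => Nat.blt c p)
    (fun a _ ih p => Nat.blt c p ||
      ((Nat.beq (Nat.land c p) 0 || force next (Nat.land (Nat.land c a) (Nat.sub p 1))) &&
        force ih (Nat.mul 2 p))) L

theorem scanB_cons (next : ℕ → Bool) (c a : ℕ) (t : List ℕ) (p : ℕ) :
    scanB next c (a :: t) p = (Nat.blt c p ||
      ((Nat.beq (c &&& p) 0 || next ((c &&& a) &&& (p - 1))) && scanB next c t (2 * p))) := by
  show (_ || ((_ || force _ _) && force _ _)) = _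
  rw [force_eq, force_eq]
  rfl

theorem scanB_spec {next : ℕ → Bool} {c : ℕ} : ∀ (L : List ℕ) (s : ℕ),
    scanB next c L (2 ^ s) = true → ∀ i, Nat.testBit c i = true → s ≤ i →
      next ((c &&& L.getD (i - s) 0) &&& (2 ^ i - 1)) = true ∧ i < s + L.length := by
  intro L
  induction L with
  | nil =>
    intro s h i hb hs
    have hlt : c < 2 ^ s := Nat.blt_eq.mp h
    rw [Nat.testBit_lt_two_pow (lt_of_lt_of_le hlt (Nat.pow_le_pow_right (by norm_num) hs))] at hb
    exact absurd hb (by simp)
  | cons a t ih =>
    intro s h i hb hs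
    rw [scanB_cons, Bool.or_eq_true, Bool.and_eq_true, Bool.or_eq_true] at h
    rcases h with h | ⟨h1, h2⟩
    · have hlt : c < 2 ^ s := Nat.blt_eq.mp h
      rw [Nat.testBit_lt_two_pow (lt_of_lt_of_le hlt (Nat.pow_le_pow_right (by norm_num) hs))] at hb
      exact absurd hb (by simp)
    rcases eq_or_lt_of_le hs with rfl | hlt
    · refine ⟨?_, by simp⟩
      rcases h1 with h1 | h1
      · have h0 := Nat.eq_of_beq_eq_true h1
        have h3 : Nat.testBit (c &&& 2 ^ s) s = false := by rw [h0, Nat.zero_testBit]
        rw [Nat.testBit_and, hb, Nat.testBit_two_pow_self] at h3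
        simp at h3
      · simpa using h1
    · rw [← pow_succ'] at h2
      obtain ⟨h3, h4⟩ := ih (s + 1) h2 i hb hlt
      refine ⟨?_, by simp only [List.length_cons]; omega⟩
      rwa [show i - s = (i - (s + 1)) + 1 by omega, List.getD_cons_succ]

/-- `dfs A k c`: the places in the mask `c` hold no clique of more than `k` members. -/
noncomputable def dfs (A : List ℕ) : ℕ → ℕ → Bool :=
  fun k => Nat.rec (motive := fun _ => ℕ → Bool) (fun c => Nat.beq c 0)
    (fun _ ih c => scanB ih c A 1) k

theorem dfs_zero (A : List ℕ) (c : ℕ) : dfs A 0 c = Nat.beq c 0 := rfl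

theorem dfs_succ (A : List ℕ) (k c : ℕ) : dfs A (k + 1) c = scanB (dfs A k) c A 1 := rfl

/-- Soundness of the search. -/
theorem dfs_sound (A : List ℕ) : ∀ k c, dfs A k c = true → ∀ E : Finset ℕ,
    (∀ i ∈ E, Nat.testBit c i = true) →
    (∀ i ∈ E, ∀ j ∈ E, j < i → Nat.testBit (A.getD i 0) j = true) → E.card ≤ k := by
  intro k
  induction k with
  | zero =>
    intro c h E hE _
    rcases E.eq_empty_or_nonempty with rfl | ⟨i, hi⟩
    · simp
    · have hb := hE i hi
      rw [dfs_zero] at h
      rw [Nat.eq_of_beq_eq_true h, Nat.zero_testBit] at hb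
      simp at hb
  | succ k ih =>
    intro c h E hE hA
    rcases E.eq_empty_or_nonempty with rfl | hne
    · simp
    · set i := E.max' hne
      have hi : i ∈ E := E.max'_mem hne
      rw [dfs_succ] at h
      have h2 := (scanB_spec A 0 (by simpa using h) i (hE i hi) (Nat.zero_le _)).1
      rw [Nat.sub_zero] at h2
      have h3 := ih _ h2 (E.erase i) (fun j hj => ?_) (fun a ha b hb' hab =>
        hA a (Finset.mem_of_mem_erase ha) b (Finset.mem_of_mem_erase hb') hab)
      · rw [← Finset.card_erase_add_one hi]
        omega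
      · have hjE := Finset.mem_of_mem_erase hj
        have hlt : j < i := lt_of_le_of_ne (E.le_max' j hjE) (Finset.ne_of_mem_erase hj)
        rw [Nat.testBit_and, Nat.testBit_and, hE j hjE, hA i hi j hjE hlt,
          Nat.testBit_two_pow_sub_one]
        simp [hlt]

/-- Every point among `n` from `s` fixed by the rows is marked. -/
noncomputable def scanL (fs : List (ℕ → ℕ)) (m s n : ℕ) : Bool :=
  Nat.rec (motive := fun _ => Bool) true
    (fun i ih => (!Nat.beq (CosetCert.PTab.runL fs (Nat.add s i)) (Nat.add s i) ||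
      Nat.testBit m (Nat.add s i)) && ih) n

theorem scanL_spec {fs : List (ℕ → ℕ)} {m s n : ℕ} (h : scanL fs m s n = true) :
    ∀ u, s ≤ u → u < s + n → CosetCert.PTab.runL fs u = u → Nat.testBit m u = true := by
  induction n with
  | zero => intro u hu hu'; omega
  | succ n ih =>
    intro u hu hu' hf
    unfold scanL at h
    simp only [Nat.add_eq, Bool.and_eq_true, Bool.or_eq_true, Bool.not_eq_true'] at h
    rcases Nat.lt_or_eq_of_le (Nat.le_of_lt_succ hu') with h' | rfl
    · exact ih h.2 u hu h' hf
    · rcases h.1 with h1 | h1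
      · simp only [Nat.add_eq] at hf
        rw [Nat.beq_eq.mpr hf] at h1
        exact absurd h1 (by simp)
      · exact h1

/-- The mask of a list. -/
def maskOf (L : List ℕ) : ℕ := L.foldr (fun i acc => Nat.lor (Nat.shiftLeft 1 i) acc) 0

theorem testBit_maskOf (L : List ℕ) (v : ℕ) : Nat.testBit (maskOf L) v = true ↔ v ∈ L := by
  induction L with
  | nil => simp [maskOf]
  | cons a t ih =>
    rw [show maskOf (a :: t) = (1 <<< a) ||| maskOf t from rfl, Nat.testBit_lor, Bool.or_eq_true,
      ih, Nat.one_shiftLeft, Nat.testBit_two_pow]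
    simp [eq_comm]

end CfsgLib.Sporadic.FiTransfer.Local23
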