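import Cfsg.Agent.Lib.Sporadic.FiTransfer.Local23.SevenData
import Cfsg.Agent.Lib.Sporadic.FiTransfer.Local23.Clique
import Cfsg.Agent.Lib.Sporadic.Fi23Out.Defs
import Cfsg.Agent.Lib.Sporadic.Fi23Class

/-!
The checks for the product of two non-commuting transpositions of Fi23.
-/

set_option autoImplicit false

namespace CfsgLib.Sporadic.FiTransfer.Local23.Seven

open CosetCert
open CosetCert.Fi23Data (table)
open CosetCert.Fi23P.OutFi (fullWord halfK rowsOf)

/-- The eight letters fixing the two points. -/
def kLets : List ℕ := [5, 4, 3, 2, 1, 0, 8, 9]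

/-- The word of the element of order three. -/
def xWord : List ℕ := Fi23P.trWord ++ [7]

/-- The mask of the points. -/
def ptsMask : ℕ := maskOf pts

/-- Only the listed points are fixed. -/
noncomputable def fixScanK (s n : ℕ) : Bool := scanL (rowsOf xWord) ptsMask s n

/-- Only three points are fixed by all eight letters. -/
noncomputable def tripK (s n : ℕ) : Bool :=
  Nat.rec (motive := fun _ => Bool) true
    (fun i ih => (!(kLets.all fun x =>
        Nat.beq (PTab.runL (rowsOf [x]) (Nat.add s i)) (Nat.add s i)) ||
      [0, 1, 8006].contains (Nat.add s i)) && ih) n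

/-- The listed points are fixed by both transpositions. -/
noncomputable def ptsK : Bool :=
  pts.all fun p => Nat.blt p 31671 && Nat.beq (PTab.runL (rowsOf Fi23P.trWord) p) p &&
    Nat.beq (PTab.runL (rowsOf [7]) p) p

/-- The eight letters fix the two points. -/
noncomputable def letK : Bool :=
  kLets.all fun x => Nat.beq (table.imgW [x] 0) 0 && Nat.beq (table.imgW [x] 8006) 8006

/-- The tree reaches every listed point. -/
noncomputable def forestK : Bool :=
  Nat.beq (pts.getD 0 31671) first.1 &&
    (List.range pts.length).all fun i =>
      Nat.beq i 0 || (Nat.blt (par.getD i (351, 0)).1 i && Nat.blt (par.getD i (351, 0)).2 8 &&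
        Nat.beq (table.imgW [kLets.getD (par.getD i (351, 0)).2 0] (pts.getD (par.getD i (351, 0)).1 31671))
          (pts.getD i 31671))

/-- The word of a neighbour. -/
def nbrWord (i : ℕ) : List ℕ := fullWord (nbr.getD i (0, [], 0)).2

/-- The words are right and the neighbours are all listed. -/
noncomputable def nbrK : Bool :=
  halfK first.1 first.2 && nbr.all (fun e => halfK e.1 e.2) &&
    pts.all fun q => Nat.beq q first.1 ||
      !(Nat.beq (PTab.runL (rowsOf (fullWord first.2)) q) q) || (nbr.map (·.1)).contains q

/-- Commuting neighbours are recorded. -/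
noncomputable def adjK (s n : ℕ) : Bool :=
  (List.range n).all fun k =>
    let i := Nat.add s k
    let fs := rowsOf (nbrWord i)
    let a := adjMask.getD i 0
    (List.range i).all fun j => Nat.testBit a j ||
      !(Nat.beq (PTab.runL fs (nbr.getD j (0, [], 0)).1) (nbr.getD j (0, [], 0)).1)

/-- No seven neighbours commute pairwise. -/
noncomputable def dfsK : Bool := dfs adjMask 6 (Nat.pow 2 126 - 1)

/-- The seven members of the clique. -/
noncomputable def cliquePt (i : ℕ) : ℕ × List ℕ × ℕ :=
  if i = 0 then first else nbr.getD (clique.getD (i - 1) 126) (0, [], 0)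

/-- The seven points of the clique are listed, distinct, and commute. -/
noncomputable def cliqueK : Bool :=
  (List.range 7).all fun i => pts.contains (cliquePt i).1 &&
    ((List.range 7).all fun j =>
      Nat.beq (PTab.runL (rowsOf (fullWord (cliquePt i).2)) (cliquePt j).1) (cliquePt j).1 &&
        (Nat.beq i j || !(Nat.beq (cliquePt i).1 (cliquePt j).1))) &&
    (Nat.beq i 0 || Nat.blt (clique.getD (i - 1) 126) 126)

end CfsgLib.Sporadic.FiTransfer.Local23.Seven
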